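import Mathlib
import Cfsg.Agent.Lib.Helper93.M11U.Defs

set_option autoImplicit false

/-!
Package [DIH] of the team project S0420: in a subgroup isomorphic to the symmetric group of
degree five, an element of order four is inverted by an involution.
-/

namespace Cfsg.Agent.Lib.Helper56.M11U

open Cfsg.Agent.Lib.Helper93.M11U

universe u

/-- In the symmetric group of degree five every element of order four is inverted by an
involution. -/
theorem perm5_invert : ∀ σ : Equiv.Perm (Fin 5), (σ ^ 4 = 1 ∧ σ ^ 2 ≠ 1) →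
    ∃ τ : Equiv.Perm (Fin 5), τ ≠ 1 ∧ τ ^ 2 = 1 ∧ τ * σ * τ⁻¹ = σ⁻¹ := by
  decide +kernel

theorem pkgDih : PkgDih.{u} := by
  intro G _ _ T C he
  obtain ⟨e⟩ := he
  have huY : C.u ∈ Y0 C := by
    unfold Y0
    exact (le_sup_right : Subgroup.zpowers C.u ≤ _) (Subgroup.mem_zpowers C.u)
  obtain ⟨uu, huu⟩ : ∃ x : ↥(Y0 C), (x : G) = C.u := ⟨⟨C.u, huY⟩, rfl⟩
  have ho : orderOf uu = 4 := by
    rw [← Subgroup.orderOf_coe, huu]
    exact C.hu
  have hσ : orderOf (e uu) = 4 := by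
    rw [MulEquiv.orderOf_eq]
    exact ho
  have h4 : (e uu) ^ 4 = 1 := by
    rw [← hσ]
    exact pow_orderOf_eq_one _
  have h2 : (e uu) ^ 2 ≠ 1 := by
    intro h
    have hd := orderOf_dvd_of_pow_eq_one h
    rw [hσ] at hd
    norm_num at hd
  obtain ⟨τ, hτ1, hτ2, hτ⟩ := perm5_invert (e uu) ⟨h4, h2⟩
  have hτo : orderOf τ = 2 := orderOf_eq_prime hτ2 hτ1
  refine ⟨((e.symm τ : ↥(Y0 C)) : G), ?_, ?_⟩
  · rw [Subgroup.orderOf_coe, MulEquiv.orderOf_eq]
    exact hτo
  · have h : e.symm τ * uu * (e.symm τ)⁻¹ = uu⁻¹ := by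
      apply e.injective
      rw [map_mul, map_mul, map_inv, map_inv, MulEquiv.apply_symm_apply]
      exact hτ
    have h' := congrArg (Subtype.val) h
    rw [Subgroup.coe_mul, Subgroup.coe_mul, Subgroup.coe_inv, Subgroup.coe_inv, huu] at h'
    exact h'

end Cfsg.Agent.Lib.Helper56.M11U
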