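import Mathlib
import Cfsg.Agent.Lib.Helper93.M11U.Defs
import Cfsg.Agent.Lib.Helper91.M11Inv

set_option autoImplicit false

/-!
Package [Y0CARD] of the team project S0420: the subgroup `Y0 = X0⟨u⟩` has order `120` and
contains the normalizer of `⟨f⟩`, which has order `20`.
-/

namespace Cfsg.Agent.Lib.Helper56.M11U

open Cfsg.Agent.Lib.Helper93.M11U

universe u

/-- The subgroup `X ∪ Xu⁻¹` for an element `u` normalizing `X` with `u² ∈ X`. -/
def extTwo {G : Type u} [Group G] (X : Subgroup G) (a : G) (h2 : a * a ∈ X)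
    (hn : ∀ x ∈ X, a * x * a⁻¹ ∈ X) : Subgroup G where
  carrier := {y | y ∈ X ∨ y * a ∈ X}
  one_mem' := Or.inl (one_mem X)
  mul_mem' := by
    have hn' : ∀ x ∈ X, a⁻¹ * x * a ∈ X := by
      intro x hx
      have h := X.mul_mem (X.mul_mem (X.inv_mem h2) (hn x hx)) h2
      have e : (a * a)⁻¹ * (a * x * a⁻¹) * (a * a) = a⁻¹ * x * a := by group
      rwa [e] at h
    rintro y z (hy | hy) (hz | hz)
    · exact Or.inl (X.mul_mem hy hz)
    · refine Or.inr ?_
      have h := X.mul_mem hy hz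
      rwa [← mul_assoc] at h
    · refine Or.inr ?_
      have h := X.mul_mem hy (hn' z hz)
      have e : y * a * (a⁻¹ * z * a) = y * z * a := by group
      rwa [e] at h
    · refine Or.inl ?_
      have h := X.mul_mem (X.mul_mem hy (hn' _ hz)) (X.inv_mem h2)
      have e : y * a * (a⁻¹ * (z * a) * a) * (a * a)⁻¹ = y * z := by group
      rwa [e] at h
  inv_mem' := by
    rintro y (hy | hy)
    · exact Or.inl (X.inv_mem hy)
    · refine Or.inr ?_
      have h := X.mul_mem (hn _ (X.inv_mem hy)) h2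
      have e : a * (y * a)⁻¹ * a⁻¹ * (a * a) = y⁻¹ * a := by group
      rwa [e] at h

theorem mem_extTwo {G : Type u} [Group G] (X : Subgroup G) (a : G) (h2 : a * a ∈ X)
    (hn : ∀ x ∈ X, a * x * a⁻¹ ∈ X) (y : G) :
    y ∈ extTwo X a h2 hn ↔ y ∈ X ∨ y * a ∈ X := Iff.rfl

/-- The order of `X ⊔ ⟨a⟩` when `a ∉ X` normalizes `X` and `a² ∈ X`. -/
theorem card_sup_zpowers {G : Type u} [Group G] [Finite G] (X : Subgroup G) (a : G)
    (h2 : a * a ∈ X) (hn : ∀ x ∈ X, a * x * a⁻¹ ∈ X) (ha : a ∉ X) :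
    Nat.card ↥(X ⊔ Subgroup.zpowers a) = 2 * Nat.card X := by
  have hXY : X ≤ X ⊔ Subgroup.zpowers a := le_sup_left
  have haY : a ∈ X ⊔ Subgroup.zpowers a :=
    (le_sup_right : Subgroup.zpowers a ≤ _) (Subgroup.mem_zpowers a)
  have hle : X ⊔ Subgroup.zpowers a ≤ extTwo X a h2 hn := by
    apply sup_le
    · intro x hx
      exact Or.inl hx
    · rw [Subgroup.zpowers_le]
      exact Or.inr h2
  have hidx : (X.subgroupOf (X ⊔ Subgroup.zpowers a)).index = 2 := by
    rw [Subgroup.index_eq_two_iff]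
    refine ⟨⟨a, haY⟩, ?_⟩
    rintro ⟨b, hb⟩
    have hb' : b ∈ X ∨ b * a ∈ X := hle hb
    have hiff1 : (⟨b, hb⟩ * ⟨a, haY⟩ : ↥(X ⊔ Subgroup.zpowers a)) ∈
        X.subgroupOf (X ⊔ Subgroup.zpowers a) ↔ b * a ∈ X := by
      rw [Subgroup.mem_subgroupOf]
      rfl
    have hiff2 : (⟨b, hb⟩ : ↥(X ⊔ Subgroup.zpowers a)) ∈
        X.subgroupOf (X ⊔ Subgroup.zpowers a) ↔ b ∈ X := by
      rw [Subgroup.mem_subgroupOf]
    rw [hiff1, hiff2]
    have hnot : ¬ (b ∈ X ∧ b * a ∈ X) := by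
      rintro ⟨h1, h3⟩
      apply ha
      have h := X.mul_mem (X.inv_mem h1) h3
      rwa [inv_mul_cancel_left] at h
    rcases hb' with h | h
    · exact Or.inr ⟨h, fun h3 => hnot ⟨h, h3⟩⟩
    · exact Or.inl ⟨h, fun h1 => hnot ⟨h1, h⟩⟩
  have hc := Subgroup.card_mul_index (X.subgroupOf (X ⊔ Subgroup.zpowers a))
  rw [hidx, Nat.card_congr (Subgroup.subgroupOfEquivOfLe hXY).toEquiv] at hc
  omega

/-- An element conjugating a generator of a finite cyclic subgroup into it normalizes it. -/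
theorem mem_normalizer_zpowers {G : Type u} [Group G] [Finite G] (f a : G)
    (h : a * f * a⁻¹ ∈ Subgroup.zpowers f) :
    a ∈ Subgroup.normalizer (Subgroup.zpowers f : Set G) := by
  have hle : Subgroup.zpowers (a * f * a⁻¹) ≤ Subgroup.zpowers f := Subgroup.zpowers_le.mpr h
  have hord : orderOf (a * f * a⁻¹) = orderOf f := by
    have := MulEquiv.orderOf_eq (MulAut.conj a) f
    rwa [MulAut.conj_apply] at this
  have heq : Subgroup.zpowers (a * f * a⁻¹) = Subgroup.zpowers f :=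
    Subgroup.eq_of_le_of_card_ge hle (by rw [Nat.card_zpowers, Nat.card_zpowers, hord])
  have hpow : ∀ k : ℤ, a * f ^ k * a⁻¹ = (a * f * a⁻¹) ^ k := by
    intro k
    have := map_zpow (MulAut.conj a) f k
    rwa [MulAut.conj_apply, MulAut.conj_apply] at this
  rw [Subgroup.mem_normalizer_iff]
  intro x
  constructor
  · intro hx
    obtain ⟨k, rfl⟩ := Subgroup.mem_zpowers_iff.mp hx
    rw [hpow, ← heq]
    exact Subgroup.zpow_mem_zpowers _ k
  · intro hx
    rw [← heq] at hx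
    obtain ⟨k, hk⟩ := Subgroup.mem_zpowers_iff.mp hx
    rw [← hpow] at hk
    have hx' : x = f ^ k := by
      have := mul_left_cancel (mul_right_cancel hk)
      exact this.symm
    rw [hx']
    exact Subgroup.zpow_mem_zpowers _ k

theorem pkgY0Card : PkgY0Card.{u} := by
  intro G _ _ T hS hG C hX
  obtain ⟨-, hX60, hfX, huuX, hnX⟩ := hX
  have : Fact (Nat.Prime 5) := ⟨by norm_num⟩
  have huX : C.u ∉ X0 C := fun h => C.huK (Subgroup.mem_inf.mp h).1
  -- the order of `Y0`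
  have hY : Nat.card ↥(Y0 C) = 120 := by
    have h := card_sup_zpowers (X0 C) C.u huuX hnX huX
    rw [hX60] at h
    exact h
  -- the normalizer of `⟨f⟩`
  have hpg : IsPGroup 5 ↥(Subgroup.zpowers C.f) :=
    IsPGroup.of_card (n := 1) (by rw [Nat.card_zpowers, C.hf]; norm_num)
  obtain ⟨P, hP⟩ := hpg.exists_le_sylow
  obtain ⟨hP5, hN20, -, -⟩ := Cfsg.Agent.Lib.Helper91.M11.sylow5_full hG P
  have hPeq : Subgroup.zpowers C.f = (P : Subgroup G) :=
    Subgroup.eq_of_le_of_card_ge hP (by rw [hP5, Nat.card_zpowers, C.hf])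
  have hNF : Nat.card ↥(NF C) = 20 := by
    unfold NF
    rw [hPeq]
    exact hN20
  have hfN : C.f ∈ NF C := Subgroup.le_normalizer (Subgroup.mem_zpowers C.f)
  have huN : C.u ∈ NF C := mem_normalizer_zpowers C.f C.u C.hun
  have hD : Subgroup.zpowers C.f ⊔ Subgroup.zpowers C.u ≤ NF C :=
    sup_le (Subgroup.zpowers_le.mpr hfN) (Subgroup.zpowers_le.mpr huN)
  have hDeq : Subgroup.zpowers C.f ⊔ Subgroup.zpowers C.u = NF C := by
    apply Subgroup.eq_of_le_of_card_ge hD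
    have h5 : 5 ∣ Nat.card ↥(Subgroup.zpowers C.f ⊔ Subgroup.zpowers C.u) := by
      have h := Subgroup.card_dvd_of_le
        (le_sup_left : Subgroup.zpowers C.f ≤ Subgroup.zpowers C.f ⊔ Subgroup.zpowers C.u)
      rwa [Nat.card_zpowers, C.hf] at h
    have h4 : 4 ∣ Nat.card ↥(Subgroup.zpowers C.f ⊔ Subgroup.zpowers C.u) := by
      have h := Subgroup.card_dvd_of_le
        (le_sup_right : Subgroup.zpowers C.u ≤ Subgroup.zpowers C.f ⊔ Subgroup.zpowers C.u)
      rwa [Nat.card_zpowers, C.hu] at h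
    have h20 : 20 ∣ Nat.card ↥(Subgroup.zpowers C.f ⊔ Subgroup.zpowers C.u) :=
      Nat.Coprime.mul_dvd_of_dvd_of_dvd (by norm_num : Nat.Coprime 5 4) h5 h4
    rw [hNF]
    exact Nat.le_of_dvd Nat.card_pos h20
  refine ⟨hY, le_sup_left, ?_, hNF⟩
  rw [← hDeq]
  unfold Y0
  exact sup_le_sup_right (Subgroup.zpowers_le.mpr hfX) _

end Cfsg.Agent.Lib.Helper56.M11U
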